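import Cfsg.Agent.Lib.PLocal.SLTwo.Qd
import Cfsg.Agent.Lib.Techniques.SectionFusion
import Cfsg.Agent.Lib.LocalEven.Qd

/-!
# No family of functors controls fusion in `Qd(p)`

`not_familyControls`: every prime, `2` included.
-/

set_option autoImplicit false

namespace CfsgLib.PGroups.QdFusion

open Subgroup CfsgLib.PLocal.SLTwo

variable {p : ℕ} [Fact p.Prime]

/-- elements of the standard Sylow subgroup -/
def el (s a b : ZMod p) : ↥(Cfsg.qd p) := aff (U s) ![a, b]

theorem el_mul (s a b t c d : ZMod p) : el s a b * el t c d = el (s + t) (a + c + s * d) (b + d) := by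
  rw [el, el, aff_mul, U_mul, el]
  congr 1
  funext i
  fin_cases i <;> simp [Matrix.mulVec, dotProduct, Fin.sum_univ_two, add_assoc]

theorem el_zero : el (0 : ZMod p) 0 0 = 1 := by
  rw [el, U_zero, ← aff_one]
  congr 1
  funext i
  fin_cases i <;> rfl

theorem el_inv (s a b : ZMod p) : (el s a b)⁻¹ = el (-s) (-a + s * b) (-b) := by
  refine inv_eq_of_mul_eq_one_right ?_
  rw [el_mul, ← el_zero]
  congr 1 <;> ring

theorem el_injective {s a b t c d : ZMod p} (h : el s a b = el t c d) : s = t ∧ a = c ∧ b = d := by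
  obtain ⟨h1, h2⟩ := aff_injective h
  exact ⟨U_injective h1, congrFun h2 0, congrFun h2 1⟩

/-- the standard Sylow subgroup -/
def syl (p : ℕ) [Fact p.Prime] : Subgroup ↥(Cfsg.qd p) where
  carrier := {z | ∃ s a b, el s a b = z}
  one_mem' := ⟨0, 0, 0, el_zero⟩
  mul_mem' := by
    rintro _ _ ⟨s, a, b, rfl⟩ ⟨t, c, d, rfl⟩
    exact ⟨_, _, _, (el_mul s a b t c d).symm⟩
  inv_mem' := by
    rintro _ ⟨s, a, b, rfl⟩
    exact ⟨_, _, _, (el_inv s a b).symm⟩

theorem el_mem (s a b : ZMod p) : el s a b ∈ syl p := ⟨s, a, b, rfl⟩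

theorem card_syl : Nat.card (syl p) = p ^ 3 := by
  let f : ZMod p × ZMod p × ZMod p → syl p := fun x => ⟨el x.1 x.2.1 x.2.2, _, _, _, rfl⟩
  have hf : Function.Bijective f := by
    refine ⟨fun x y h => ?_, fun ⟨_, s, a, b, hz⟩ => ⟨(s, a, b), Subtype.ext hz⟩⟩
    obtain ⟨h1, h2, h3⟩ := el_injective (congrArg Subtype.val h)
    exact Prod.ext h1 (Prod.ext h2 h3)
  rw [← Nat.card_congr (Equiv.ofBijective f hf), Nat.card_prod, Nat.card_prod, Nat.card_zmod]
  ring

theorem not_dvd_index_syl : ¬ p ∣ (syl p).index := by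
  have hcard : Nat.card ↥(Cfsg.qd p) = p ^ 3 * (p ^ 2 - 1) := by
    let f : S2 (ZMod p) × (Fin 2 → ZMod p) → ↥(Cfsg.qd p) := fun x => aff x.1 x.2
    have hf : Function.Bijective f :=
      ⟨fun x y h => Prod.ext (aff_injective h).1 (aff_injective h).2,
        fun z => by obtain ⟨x, w, rfl⟩ := aff_surjective z; exact ⟨(x, w), rfl⟩⟩
    rw [← Nat.card_congr (Equiv.ofBijective f hf), Nat.card_prod, CfsgLib.Classical.Two.card_SL_two,
      Nat.card_fun, Nat.card_zmod, Nat.card_fin, ZMod.card]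
    ring
  have h := Subgroup.card_mul_index (syl p)
  rw [hcard, card_syl] at h
  rw [Nat.eq_of_mul_eq_mul_left (pow_pos (Fact.out : p.Prime).pos 3) h]
  intro hd
  exact CfsgLib.Classical.Two.not_dvd_card_sq_sub_one (F := ZMod p) p (by rwa [ZMod.card])

/-- the automorphism of the Sylow subgroup moving the translations -/
theorem exists_swap : ∃ φ : syl p ≃* syl p, ∀ (s a b : ZMod p) (h : el s a b ∈ syl p),
    ((φ ⟨el s a b, h⟩ : syl p) : ↥(Cfsg.qd p)) = el b (-a + s * b) s := by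
  classical
  have hc : ∀ z : syl p, ∃ x : ZMod p × ZMod p × ZMod p, el x.1 x.2.1 x.2.2 = z := by
    rintro ⟨_, s, a, b, rfl⟩
    exact ⟨(s, a, b), rfl⟩
  choose c hc using hc
  have hcel : ∀ (s a b : ZMod p) (h : el s a b ∈ syl p), c ⟨el s a b, h⟩ = (s, a, b) := fun s a b h => by
    obtain ⟨h1, h2, h3⟩ := el_injective (hc ⟨el s a b, h⟩)
    exact Prod.ext h1 (Prod.ext h2 h3)
  obtain ⟨g, hg⟩ : ∃ g : syl p → syl p, ∀ (s a b : ZMod p) (h : el s a b ∈ syl p),
      g ⟨el s a b, h⟩ = ⟨el b (-a + s * b) s, el_mem _ _ _⟩ :=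
    ⟨fun z => ⟨el (c z).2.2 (-(c z).2.1 + (c z).1 * (c z).2.2) (c z).1, el_mem _ _ _⟩,
      fun s a b h => by simp only [hcel]⟩
  have hmk : ∀ (s a b t d e : ZMod p), (⟨el s a b, el_mem _ _ _⟩ * ⟨el t d e, el_mem _ _ _⟩ : syl p) =
      ⟨el (s + t) (a + d + s * e) (b + e), el_mem _ _ _⟩ := fun s a b t d e => Subtype.ext (el_mul _ _ _ _ _ _)
  have hsurj : ∀ z : syl p, ∃ s a b, z = ⟨el s a b, el_mem s a b⟩ := by
    rintro ⟨_, s, a, b, rfl⟩
    exact ⟨s, a, b, rfl⟩
  have hgm : ∀ x y, g (x * y) = g x * g y := fun x y => by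
    obtain ⟨s, a, b, rfl⟩ := hsurj x
    obtain ⟨t, d, e, rfl⟩ := hsurj y
    rw [hmk, hg, hg, hg, hmk]
    exact Subtype.ext (by congr 1; ring)
  have hgg : ∀ x, g (g x) = x := fun x => by
    obtain ⟨s, a, b, rfl⟩ := hsurj x
    rw [hg, hg]
    exact Subtype.ext (by congr 1; ring)
  exact ⟨{ toFun := g, invFun := g, left_inv := hgg, right_inv := hgg, map_mul' := hgm },
    fun s a b h => congrArg Subtype.val (hg s a b h)⟩

/-- A subgroup of the Sylow subgroup invariant under it and the swap is normalised only inside the line stabilizer. -/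
theorem line_stable {W : Subgroup ↥(Cfsg.qd p)} (hW : W ≤ syl p) (hne : W ≠ ⊥)
    (hn : syl p ≤ normalizer (W : Set ↥(Cfsg.qd p)))
    (hswap : ∀ s a b, el s a b ∈ W → el b (-a + s * b) s ∈ W) {g : ↥(Cfsg.qd p)}
    (hg : g ∈ normalizer (W : Set ↥(Cfsg.qd p))) (a : ZMod p) :
    ∃ c, g * el 0 a 0 * g⁻¹ = el 0 c 0 := by
  have hcomm : ∀ s a b, el s a b ∈ W → el 0 (-b) 0 ∈ W ∧ el 0 s 0 ∈ W := by
    intro s a b h
    have key : ∀ y ∈ syl p, el s a b * (y * (el s a b)⁻¹ * y⁻¹) ∈ W := fun y hy =>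
      mul_mem h ((mem_normalizer_iff.1 (hn hy) _).1 (inv_mem h))
    refine ⟨?_, ?_⟩
    · convert key (el 1 0 0) ⟨_, _, _, rfl⟩ using 1
      rw [el_inv, el_inv, el_mul, el_mul, el_mul]
      congr 1 <;> ring
    · convert key (el 0 0 1) ⟨_, _, _, rfl⟩ using 1
      rw [el_inv, el_inv, el_mul, el_mul, el_mul]
      congr 1 <;> ring
  have hline : ∀ c : ZMod p, c ≠ 0 → el 0 c 0 ∈ W → ∀ d, el 0 d 0 ∈ W := by
    intro c hc h d
    have hpow : ∀ n : ℕ, el 0 ((n : ZMod p) * c) 0 ∈ W := by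
      intro n
      induction n with
      | zero => rw [Nat.cast_zero, zero_mul, el_zero]; exact one_mem W
      | succ n ih =>
        have := mul_mem ih h
        rw [el_mul] at this
        convert this using 2 <;> push_cast <;> ring
    have := hpow (d * c⁻¹).val
    rwa [ZMod.natCast_zmod_val, mul_assoc, inv_mul_cancel₀ hc, mul_one] at this
  have hZ : ∀ d, el 0 d 0 ∈ W := by
    obtain ⟨⟨w, hw⟩, hw'⟩ := W.ne_bot_iff_exists_ne_one.1 hne
    have hw1 : w ≠ 1 := fun h => hw' (Subtype.ext h)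
    obtain ⟨s, a, b, rfl⟩ := hW hw
    rcases ne_or_eq b 0 with hb | rfl
    · exact hline _ (neg_ne_zero.2 hb) (hcomm s a b hw).1
    rcases ne_or_eq s 0 with hs | rfl
    · exact hline _ hs (hcomm s a 0 hw).2
    exact hline a (fun h => hw1 (by rw [h, el_zero])) hw
  have hconj : ∀ a, ∃ u v, g * el 0 a 0 * g⁻¹ = el 0 u v := fun a => by
    obtain ⟨x, w, rfl⟩ := aff_surjective g
    refine ⟨(Matrix.mulVec x.1 ![a, 0]) 0, (Matrix.mulVec x.1 ![a, 0]) 1, ?_⟩
    rw [el, el, U_zero, conj_translation]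
    congr 1
    funext i
    fin_cases i <;> rfl
  obtain ⟨u, v, huv⟩ := hconj a
  by_cases hv : v = 0
  · exact ⟨u, hv ▸ huv⟩
  exfalso
  have hin : el 0 u v ∈ W := huv ▸ (mem_normalizer_iff.1 hg _).1 (hZ a)
  -- `W` is everything, and conjugation preserves its centre
  have h2 : ∀ d e : ZMod p, el 0 d e ∈ W := by
    intro d e
    have hpow : ∀ n : ℕ, el 0 ((n : ZMod p) * u) ((n : ZMod p) * v) ∈ W := by
      intro n
      induction n with
      | zero => rw [Nat.cast_zero, zero_mul, zero_mul, el_zero]; exact one_mem W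
      | succ n ih =>
        have := mul_mem ih hin
        rw [el_mul] at this
        convert this using 2 <;> push_cast <;> ring
    have h' := mul_mem (hpow (e * v⁻¹).val) (hZ (d - e * v⁻¹ * u))
    rw [ZMod.natCast_zmod_val, el_mul, mul_assoc e v⁻¹ v, inv_mul_cancel₀ hv] at h'
    convert h' using 2 <;> ring
  have hT : syl p ≤ W := by
    rintro _ ⟨s, d, b, rfl⟩
    have h1 : el s 0 0 ∈ W := by simpa using hswap 0 0 s (h2 0 s)
    have h' := mul_mem h1 (h2 (d - s * b) b)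
    rw [el_mul] at h'
    convert h' using 2 <;> ring
  have hcen : ∀ y ∈ syl p, el 0 u v * y = y * el 0 u v := by
    intro y hy
    have hy' : g⁻¹ * y * g ∈ syl p := hW ((mem_normalizer_iff''.1 hg y).1 (hT hy))
    have hcomm0 : el 0 a 0 * (g⁻¹ * y * g) = g⁻¹ * y * g * el 0 a 0 := by
      obtain ⟨s, d, b, hb⟩ := hy'
      rw [← hb, el_mul, el_mul]
      congr 1 <;> ring
    rw [← huv]
    calc g * el 0 a 0 * g⁻¹ * y = g * (el 0 a 0 * (g⁻¹ * y * g)) * g⁻¹ := by group
      _ = g * (g⁻¹ * y * g * el 0 a 0) * g⁻¹ := by rw [hcomm0]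
      _ = y * (g * el 0 a 0 * g⁻¹) := by group
  have h := hcen (el 1 0 0) ⟨_, _, _, rfl⟩
  rw [el_mul, el_mul] at h
  exact hv (by simpa using (el_injective h).2.1.symm)

universe u

open CfsgLib.Techniques in
/-- No family of functors controls fusion in `Qd(p)`. -/
theorem not_familyControls {X : Type u} [Group X] [Finite X] (e : ↥(Cfsg.qd p) ≃* X)
    {𝓦 : Set (∀ (Q : Type u) [Group Q], Subgroup Q)} (h𝓦 : ∀ W ∈ 𝓦, Cfsg.IsCharPFunctor.{u} p W) :
    ¬ Cfsg.FamilyControlsStrongFusionIn p (inducedSet 𝓦 X) ⊤ := by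
  intro hctl
  set T := (syl p).map e.toMonoidHom with hT
  have hp : IsPGroup p T := (IsPGroup.of_card card_syl).map _
  have hidx : ¬ p ∣ T.relIndex ⊤ := by
    rw [relIndex_top_right, hT, Subgroup.index_map_of_bijective (f := e.toMonoidHom) e.bijective]
    exact not_dvd_index_syl
  have hV := inducedSet_conjugacy h𝓦 X
  -- every step preserves the line
  have hstep : ∀ m ∈ {m | ∃ V ∈ inducedSet 𝓦 X,
      m ∈ (⊤ : Subgroup X) ⊓ Subgroup.normalizer ((V T : Subgroup X) : Set X)},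
      ∀ a, ∃ c, m * e (el 0 a 0) * m⁻¹ = e (el 0 c 0) := by
    rintro m ⟨_, ⟨W, hW, rfl⟩, -, hm⟩ a
    change m ∈ normalizer (Cfsg.inducedFunctor W T : Set X) at hm
    obtain ⟨φ, hφ⟩ := exists_swap (p := p)
    set W' := (Cfsg.inducedFunctor W T).comap e.toMonoidHom with hW'
    have hle : Cfsg.inducedFunctor W T ≤ T := (hV _ ⟨W, hW, rfl⟩ T hp).1
    have h1 : W' ≤ syl p := by
      refine (comap_mono hle).trans ?_
      rw [hT, comap_map_eq_self_of_injective e.injective]
    have h2 : W' ≠ ⊥ := by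
      intro h
      refine (hV _ ⟨W, hW, rfl⟩ T hp).2.1 (fun hb => ?_) ?_
      · rw [hT, map_eq_bot_iff_of_injective _ e.injective, ← card_eq_one, card_syl] at hb
        exact (Nat.one_lt_pow (by norm_num) (Fact.out : p.Prime).one_lt).ne' hb
      · show Cfsg.inducedFunctor W T = ⊥
        rw [← map_comap_eq_self_of_surjective (f := e.toMonoidHom) e.surjective (Cfsg.inducedFunctor W T)]
        exact (congrArg (Subgroup.map e.toMonoidHom) h).trans (Subgroup.map_bot _)
    have hmem : ∀ g, e g ∈ normalizer (Cfsg.inducedFunctor W T : Set X) →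
        g ∈ normalizer (W' : Set ↥(Cfsg.qd p)) := fun g hg => mem_normalizer_iff.2 fun x => by
      rw [hW', mem_comap, mem_comap, map_mul, map_mul, map_inv]
      exact mem_normalizer_iff.1 hg _
    have h3 : syl p ≤ normalizer (W' : Set ↥(Cfsg.qd p)) := fun g hg =>
      hmem g (CfsgLib.Techniques.le_normalizer_functor (hV _ ⟨W, hW, rfl⟩) hp (mem_map_of_mem _ hg))
    have h4 : ∀ s a b, el s a b ∈ W' → el b (-a + s * b) s ∈ W' := by
      intro s a b h
      let eT : syl p ≃* T := (equivMapOfInjective (syl p) e.toMonoidHom e.injective)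
      let ψ : T ≃* T := eT.symm.trans (φ.trans eT)
      obtain ⟨t, ht, hte⟩ := (mem_comap.1 (show el s a b ∈ (Cfsg.inducedFunctor W T).comap e.toMonoidHom from h))
      have ht' : ψ t ∈ W T := by
        rw [← (h𝓦 W hW).2 T T hp ψ]
        exact mem_map_of_mem _ ht
      refine ⟨ψ t, ht', ?_⟩
      have hes : eT.symm t = ⟨el s a b, _, _, _, rfl⟩ := by
        apply eT.injective
        rw [MulEquiv.apply_symm_apply]
        exact Subtype.ext hte
      show ((eT (φ (eT.symm t)) : T) : X) = _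
      rw [hes]
      show e (φ ⟨el s a b, _⟩ : syl p) = e (el b (-a + s * b) s)
      exact congrArg e (hφ s a b (el_mem s a b))
    obtain ⟨g, rfl⟩ := e.surjective m
    obtain ⟨c, hc⟩ := line_stable h1 h2 h3 h4 (hmem g hm) a
    exact ⟨c, by rw [← hc, map_mul, map_mul, map_inv]⟩
  have key : ∀ (A : Set X) (y : X),
      SPath T {m | ∃ V ∈ inducedSet 𝓦 X,
        m ∈ (⊤ : Subgroup X) ⊓ Subgroup.normalizer ((V T : Subgroup X) : Set X)} A y →
      ∀ a, e (el 0 a 0) ∈ A → ∃ c, y * e (el 0 a 0) * y⁻¹ = e (el 0 c 0) := by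
    intro A y h
    induction h with
    | one A _ => exact fun a _ => ⟨a, by group⟩
    | step A m g hm _ _ ih =>
      intro a ha
      obtain ⟨c, hc⟩ := hstep m hm a
      obtain ⟨d, hd⟩ := ih c ⟨_, ha, hc⟩
      exact ⟨d, by rw [← hd, ← hc]; group⟩
    | congr A g g' _ he ih =>
      intro a ha
      rw [he _ ha]
      exact ih a ha
  let w : S2 (ZMod p) := ⟨!![0, -1; 1, 0], by simp [Matrix.det_fin_two_of]⟩
  have himg : e (aff w 0) * e (el 0 1 0) * (e (aff w 0))⁻¹ = e (el 0 0 1) := by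
    rw [← map_inv, ← map_mul, ← map_mul, el, el, U_zero, conj_translation]
    congr 2
    funext i
    fin_cases i <;> simp [w, Matrix.mulVec, dotProduct, Fin.sum_univ_two]
  have hp' := familyControlsFusion_at hV hctl (Q := T) ⟨le_top, hp, hidx⟩ {e (el 0 1 0)}
    (e (aff w 0)) trivial (Set.singleton_subset_iff.2 (mem_map_of_mem _ ⟨_, _, _, rfl⟩))
    (by
      rw [Set.image_singleton, Set.singleton_subset_iff, himg]
      exact mem_map_of_mem _ ⟨_, _, _, rfl⟩)
  obtain ⟨c, hc⟩ := key _ _ hp' 1 rfl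
  rw [himg] at hc
  exact one_ne_zero (el_injective (e.injective hc)).2.2

end CfsgLib.PGroups.QdFusion
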